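import Groth.Agent.H1Lech.Main
import Groth.Agent.H4Depth.Regular

/-! Colengths and duality for ideals containing a parameter ideal in a two-dimensional regular local ring. -/

set_option autoImplicit false
universe u

open IsLocalRing
open Groth.Agent.H1HK (colen Cofin)
open Groth.Agent.H1Lech (col mem_col le_col colen_self cofin_mono colen_mono)

namespace Groth.Agent.H1Link

variable {R : Type u} [CommRing R] [IsNoetherianRing R] [IsLocalRing R]

theorem colen_split {K : Ideal R} (hK : Cofin K) (x : R) :
    colen K R = colen (col K x) R + colen (K ⊔ Ideal.span {x}) R := by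
  rw [H1Lech.colen_eq_add hK x, H1Lech.colen_map_mk]
  congr 1
  have hs : Cofin (K ⊔ Ideal.span {x}) := cofin_mono hK le_sup_left
  have h : (colen K (R ⧸ Ideal.span {x}) : ℕ∞) = colen (K ⊔ Ideal.span {x}) R := by
    rw [H1HK.colen_cast hK, colen_self hs]
    refine (Submodule.quotEquivOfEq _ _ ?_ ≪≫ₗ Submodule.quotientQuotientEquivQuotientSup (Ideal.span {x}) K ≪≫ₗ
      Submodule.quotEquivOfEq _ _ (sup_comm _ _)).length_eq
    rw [← Submodule.range_mkQ (Ideal.span {x}), ← Submodule.map_top, ← Submodule.map_smul'', smul_eq_mul, Ideal.mul_top]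
  exact_mod_cast h

theorem colen_pos {K : Ideal R} (hK : Cofin K) (h : K ≠ ⊤) : 0 < colen K R := by
  haveI := Ideal.Quotient.nontrivial_iff.2 h
  have := Module.length_pos (R := R) (M := R ⧸ K)
  rw [← colen_self hK] at this
  exact_mod_cast this

theorem colen_lt {a b : Ideal R} (ha : Cofin a) (hab : a ≤ b) {t : R} (htb : t ∈ b) (hta : t ∉ a) :
    colen b R < colen a R := by
  have h1 := colen_split ha t
  have h2 := colen_mono (cofin_mono ha le_sup_left)
    (sup_le hab ((Ideal.span_singleton_le_iff_mem b).2 htb))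
  have h3 : 0 < colen (col a t) R := colen_pos (cofin_mono ha (le_col a t)) fun h => hta (by
    have : (1 : R) ∈ col a t := h ▸ Submodule.mem_top
    simpa [mem_col] using this)
  omega

theorem colen_maximal : colen (maximalIdeal R) R ≤ 1 := by
  haveI : IsSimpleModule R (R ⧸ maximalIdeal R) :=
    isSimpleModule_iff_isCoatom.2 (maximalIdeal.isMaximal R).out
  have h : (colen (maximalIdeal R) R : ℕ∞) = (1 : ℕ) := by
    rw [colen_self H1Lech.cofin_max, Module.length_eq_one, Nat.cast_one]
  exact (by exact_mod_cast h : colen (maximalIdeal R) R = 1).le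

/-- A socle of length at most one gives the Gorenstein duality of colon ideals. -/
theorem colen_colon_add {C : Ideal R} (hC : Cofin C) {Δ : R} (hΔ : ∀ r ∈ maximalIdeal R, r * Δ ∈ C)
    (hsoc : ∀ z, (∀ r ∈ maximalIdeal R, r * z ∈ C) → ∃ σ, z - σ * Δ ∈ C)
    {a : Ideal R} (hCa : C ≤ a) :
    colen (C.colon (a : Set R)) R + colen a R = colen C R := by
  have hle : ∀ s : Set R, C ≤ C.colon s := fun s r hr => Submodule.mem_colon.2 fun t _ => C.mul_mem_right t hr
  have top0 : colen (⊤ : Ideal R) R = 0 := by
    haveI : Subsingleton (R ⧸ (⊤ : Ideal R)) := Submodule.Quotient.subsingleton_iff.2 rfl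
    have h : (colen (⊤ : Ideal R) R : ℕ∞) = 0 := by
      rw [colen_self (cofin_mono hC le_top), Module.length_eq_zero]
    exact_mod_cast h
  have key : ∀ n, ∀ a b : Ideal R, C ≤ a → a ≤ b → colen a R = n →
      colen (C.colon (b : Set R)) R + colen b R ≤ colen (C.colon (a : Set R)) R + n := by
    intro n
    induction n using Nat.strong_induction_on with
    | _ n ih =>
      intro a b hCa hab hn
      by_cases hba : b ≤ a
      · rw [le_antisymm hba hab, hn]
      -- a socle element of b/a
      have hex : ∃ t ∈ b, t ∉ a ∧ ∀ r ∈ maximalIdeal R, r * t ∈ a := by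
        classical
        have hk : ∃ k, maximalIdeal R ^ k * b ≤ a := by
          obtain ⟨N, hN⟩ := cofin_mono hC hCa
          exact ⟨N, Ideal.mul_le_left.trans hN⟩
        have h0 : Nat.find hk ≠ 0 := fun h => hba (by simpa [h] using Nat.find_spec hk)
        obtain ⟨j, hj⟩ := Nat.exists_eq_succ_of_ne_zero h0
        obtain ⟨t, ht, hta⟩ := SetLike.not_le_iff_exists.1 (Nat.find_min hk (show j < Nat.find hk by omega))
        refine ⟨t, Ideal.mul_le_right ht, hta, fun r hr => Nat.find_spec hk ?_⟩
        rw [hj, pow_succ', mul_assoc]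
        exact Ideal.mul_mem_mul hr ht
      obtain ⟨t, htb, hta, htm⟩ := hex
      set a' := a ⊔ Ideal.span {t}
      have hta' : t ∈ a' := Submodule.mem_sup_right (Ideal.subset_span rfl)
      have hlt : colen a' R < colen a R := colen_lt (cofin_mono hC hCa) le_sup_left hta' hta
      have h1 := ih (colen a' R) (hn ▸ hlt) a' b (hCa.trans le_sup_left)
        (sup_le hab ((Ideal.span_singleton_le_iff_mem b).2 htb)) rfl
      have hf : colen (C.colon (a' : Set R)) R ≤ colen (C.colon (a : Set R)) R + 1 := by
        have hmem : ∀ c, c ∈ C.colon (a : Set R) → c * t ∈ C → c ∈ C.colon (a' : Set R) := fun c hc hct =>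
          Submodule.mem_colon.2 fun s hs => by
            obtain ⟨u, hu, v, hv, rfl⟩ := Submodule.mem_sup.1 hs
            obtain ⟨w, rfl⟩ := Ideal.mem_span_singleton'.1 hv
            rw [smul_eq_mul, mul_add, mul_left_comm]
            exact add_mem (Submodule.mem_colon.1 hc u hu) (C.mul_mem_left w hct)
        by_cases hall : ∀ c ∈ C.colon (a : Set R), c * t ∈ C
        · refine (le_of_eq (congrArg (fun I => colen I R) (le_antisymm ?_ fun c hc => hmem c hc (hall c hc)))).trans
            (Nat.le_succ _)
          exact Submodule.colon_mono le_rfl (SetLike.coe_subset_coe.2 le_sup_left)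
        push Not at hall
        obtain ⟨c0, hc0, hc0t⟩ := hall
        have hz : ∀ c ∈ C.colon (a : Set R), ∀ r ∈ maximalIdeal R, r * (c * t) ∈ C := fun c hc r hr => by
          rw [mul_left_comm]; exact Submodule.mem_colon.1 hc _ (htm r hr)
        obtain ⟨ρ, hρ⟩ := hsoc _ (hz c0 hc0)
        have hρu : IsUnit ρ := by
          by_contra h
          exact hc0t (by simpa using add_mem hρ (hΔ ρ h))
        obtain ⟨ρ, rfl⟩ := hρu
        have hK : Cofin (C.colon (a' : Set R)) := cofin_mono hC (hle _)
        have hs := colen_split hK c0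
        have h2 : C.colon (a : Set R) ≤ C.colon (a' : Set R) ⊔ Ideal.span {c0} := fun c hc => by
          obtain ⟨σ, hσ⟩ := hsoc _ (hz c hc)
          have hd : c - σ * ↑ρ⁻¹ * c0 ∈ C.colon (a' : Set R) := by
            refine hmem _ (sub_mem hc (Ideal.mul_mem_left _ _ hc0)) ?_
            have e : (c - σ * ↑ρ⁻¹ * c0) * t =
                (c * t - σ * Δ) - σ * ↑ρ⁻¹ * (c0 * t - ↑ρ * Δ) := by
              linear_combination (σ * Δ) * (ρ.inv_mul).symm
            rw [e]
            exact sub_mem hσ (C.mul_mem_left _ hρ)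
          exact Submodule.mem_sup.2 ⟨_, hd, _, Ideal.mem_span_singleton'.2 ⟨_, rfl⟩, sub_add_cancel c _⟩
        have h3 : maximalIdeal R ≤ col (C.colon (a' : Set R)) c0 := fun r hr => by
          rw [mem_col]
          refine hmem _ (Ideal.mul_mem_left _ _ hc0) ?_
          rw [mul_assoc]; exact hz c0 hc0 r hr
        have h4 := colen_mono (H1Lech.cofin_max) h3
        have h5 := colen_mono (cofin_mono hC (hle _)) h2
        have h6 := colen_maximal (R := R)
        omega
      omega
  have hCC : C.colon (C : Set R) = ⊤ := eq_top_iff.2 fun r _ => Submodule.mem_colon.2 fun s hs => C.mul_mem_left r hs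
  have hCT : C.colon ((⊤ : Ideal R) : Set R) = C :=
    le_antisymm (fun r hr => by simpa using Submodule.mem_colon.1 hr 1 trivial) (hle _)
  have h1 := key _ C a le_rfl hCa rfl
  have h2 := key _ a ⊤ hCa le_top rfl
  rw [hCC, top0] at h1
  rw [hCT, top0] at h2
  omega

theorem eq_of_colen {a b : Ideal R} (ha : Cofin a) (hab : a ≤ b) (h : colen a R ≤ colen b R) : a = b := by
  refine le_antisymm hab fun t htb => ?_
  by_contra hta
  have := colen_lt ha hab htb hta
  omega

end Groth.Agent.H1Link
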