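import Groth.Agent.H1Link.Basic

/-! Lengths of `Hom(I, R/J)` over a two-dimensional regular local ring, by linkage. -/

set_option autoImplicit false
universe u

open IsLocalRing
open Groth.Agent.H1HK (colen Cofin)
open Groth.Agent.H1Lech (col mem_col le_col colen_self cofin_mono colen_mono)

namespace Groth.Agent.H1Link

variable {R : Type u} [CommRing R]

theorem exists_params [IsRegularLocalRing R] (hdim : ringKrullDim R = 2) :
    ∃ p q : R, Ideal.span {p, q} = maximalIdeal R ∧ Prime p ∧ Prime q ∧ ¬ p ∣ q ∧ ¬ q ∣ p := by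
  haveI := H4Depth.isDomain_of_isRegularLocalRing R
  obtain ⟨d, x, hd, hx⟩ := H4Depth.exists_regular_system_of_parameters R
  have hd2 : d = 2 := by
    rw [hdim] at hd
    have h2 : (2 : ℕ) = d := by exact_mod_cast hd
    exact h2.symm
  subst hd2
  have hm : Ideal.span {x 0, x 1} = maximalIdeal R := by
    rw [← hx]
    refine congrArg Ideal.span (Set.ext fun r => ?_)
    simp [Fin.exists_fin_two, eq_comm]
  have hone : ∀ i, (Ideal.span {x i}).IsPrime ∧ Ideal.span {x i} ≠ maximalIdeal R := fun i => by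
    obtain ⟨h, hdim1⟩ := H4Depth.exists_regular_quotient_of_subset 2 hd x hx {i}
    have he : x '' (({i} : Finset (Fin 2)) : Set (Fin 2)) = {x i} := by simp
    haveI := H4Depth.isDomain_of_isRegularLocalRing (R ⧸ Ideal.span (x '' (({i} : Finset (Fin 2)) : Set (Fin 2))))
    have hp := (Ideal.Quotient.isDomain_iff_prime (Ideal.span (x '' (({i} : Finset (Fin 2)) : Set (Fin 2))))).1 this
    refine ⟨he ▸ hp, fun hmax => ?_⟩
    have hf : IsField (R ⧸ Ideal.span (x '' (({i} : Finset (Fin 2)) : Set (Fin 2)))) :=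
      (Ideal.Quotient.maximal_ideal_iff_isField_quotient _).1 (by rw [he, hmax]; exact maximalIdeal.isMaximal R)
    have h0 := ringKrullDim_eq_zero_of_isField hf
    rw [hdim1, Finset.card_singleton] at h0
    have : (1 : ℕ) = 0 := by exact_mod_cast h0
    omega
  have hne : ∀ i, x i ≠ 0 := fun i h => by
    have hp := (hone i).1
    fin_cases i
    · refine (hone 1).2 ?_
      rw [← hm, show x 0 = 0 from h, Ideal.span_insert_zero]
    · refine (hone 0).2 ?_
      rw [← hm, show x 1 = 0 from h, Set.pair_comm, Ideal.span_insert_zero]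
  refine ⟨x 0, x 1, hm, (Ideal.span_singleton_prime (hne 0)).1 (hone 0).1,
    (Ideal.span_singleton_prime (hne 1)).1 (hone 1).1, fun h => (hone 0).2 ?_, fun h => (hone 1).2 ?_⟩
  · rw [← hm, Ideal.span_insert]
    exact (sup_eq_left.2 (Ideal.span_singleton_le_span_singleton.2 h)).symm
  · rw [← hm, Ideal.span_insert]
    exact (sup_eq_right.2 (Ideal.span_singleton_le_span_singleton.2 h)).symm

variable [IsDomain R]

theorem coprime_pow {p q : R} (hp : Prime p) (hpq : ¬ p ∣ q) (i j : ℕ) {a : R} (h : p ^ i ∣ q ^ j * a) :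
    p ^ i ∣ a :=
  hp.pow_dvd_of_dvd_mul_left i (fun hd => hpq (hp.dvd_of_dvd_pow hd)) h

theorem socle_pow {p q : R} (hp : Prime p) (hq : Prime q) (hpq : ¬ p ∣ q) (hqp : ¬ q ∣ p) (n : ℕ) {t : R}
    (h1 : t * p ∈ Ideal.span {p ^ (n + 1), q ^ (n + 1)}) (h2 : t * q ∈ Ideal.span {p ^ (n + 1), q ^ (n + 1)}) :
    ∃ σ, t - σ * (p ^ n * q ^ n) ∈ Ideal.span {p ^ (n + 1), q ^ (n + 1)} := by
  obtain ⟨α, β, h1⟩ := Ideal.mem_span_pair.1 h1
  obtain ⟨γ, δ, h2⟩ := Ideal.mem_span_pair.1 h2
  obtain ⟨r, rfl⟩ : p ∣ β := by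
    have : p ^ 1 ∣ q ^ (n + 1) * β := by
      rw [pow_one]; exact ⟨t - α * p ^ n, by linear_combination h1⟩
    simpa using coprime_pow hp hpq 1 (n + 1) this
  obtain ⟨g, rfl⟩ : q ∣ γ := by
    have : q ^ 1 ∣ p ^ (n + 1) * γ := by
      rw [pow_one]; exact ⟨t - δ * q ^ n, by linear_combination h2⟩
    simpa using coprime_pow hq hqp 1 (n + 1) this
  have e1 : t = α * p ^ n + r * q ^ (n + 1) :=
    mul_right_cancel₀ hp.ne_zero (by linear_combination -h1)
  have e2 : t = g * p ^ (n + 1) + δ * q ^ n :=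
    mul_right_cancel₀ hq.ne_zero (by linear_combination -h2)
  obtain ⟨e, he⟩ : q ^ n ∣ α - g * p := by
    refine coprime_pow hq hqp n n ⟨δ - r * q, ?_⟩
    linear_combination e2 - e1
  exact ⟨e, Ideal.mem_span_pair.2 ⟨g, r, by linear_combination -e1 - p ^ n * he⟩⟩

/-- A kernel of a map from a free module to `R` is free in dimension two. -/
theorem free_ker [IsNoetherianRing R] [IsLocalRing R] {p q : R} (hm : Ideal.span {p, q} = maximalIdeal R)
    (hp : Prime p) (hpq : ¬ p ∣ q) {κ : Type} [Fintype κ] (π : (κ → R) →ₗ[R] R) :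
    Module.Free R (LinearMap.ker π) := by
  classical
  set F := LinearMap.ker π
  have hqreg : ∀ w w' : F, q • w = p • w' → ∃ w'' : F, w = p • w'' := fun w w' h => by
    have hd : ∀ s, p ∣ (w : κ → R) s := fun s => by
      have h' : q * (w : κ → R) s = p * (w' : κ → R) s := congrFun (congrArg Subtype.val h) s
      exact (hp.dvd_or_dvd ⟨_, h'⟩).resolve_left hpq
    choose c hc using hd
    have hw : (w : κ → R) = p • c := funext hc
    have hc0 : π c = 0 := by
      have h0 : π (w : κ → R) = 0 := w.2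
      rw [hw, map_smul, smul_eq_mul] at h0
      exact (mul_eq_zero.1 h0).resolve_left hp.ne_zero
    exact ⟨⟨c, hc0⟩, Subtype.ext hw⟩
  have hex : ∃ n, ∃ e : Fin n → F, Submodule.span R (Set.range e) = ⊤ :=
    Submodule.fg_iff_exists_fin_generating_family.1 (Module.Finite.fg_top (R := R) (M := F))
  obtain ⟨n, ⟨e, he⟩, hmin⟩ : ∃ n, (∃ e : Fin n → F, Submodule.span R (Set.range e) = ⊤) ∧
      ∀ k < n, ¬ ∃ e : Fin k → F, Submodule.span R (Set.range e) = ⊤ :=
    ⟨Nat.find hex, Nat.find_spec hex, fun k hk => Nat.find_min hex hk⟩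
  have hmax : ∀ a : Fin n → R, ∑ i, a i • e i = 0 → ∀ i, a i ∈ maximalIdeal R := fun a ha i => by
    by_contra hu
    obtain ⟨v, hv⟩ : IsUnit (a i) := by simpa using hu
    have hi : 0 < n := Fin.pos i
    refine hmin (n - 1) (by omega) ?_
    obtain ⟨m, hm⟩ : ∃ m, n = m + 1 := ⟨n - 1, by omega⟩
    have hmem : e i ∈ Submodule.span R (e '' {j | j ≠ i}) := by
      have e1 : a i • e i = - ∑ j ∈ Finset.univ.erase i, a j • e j :=
        eq_neg_of_add_eq_zero_left ((Finset.add_sum_erase _ (fun j => a j • e j) (Finset.mem_univ i)).trans ha)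
      have e2 : e i = (↑v⁻¹ : R) • (a i • e i) := by rw [smul_smul, ← hv, Units.inv_mul, one_smul]
      rw [e2, e1]
      exact Submodule.smul_mem _ _ (neg_mem (sum_mem fun j hj => Submodule.smul_mem _ _
        (Submodule.subset_span ⟨j, (Finset.mem_erase.1 hj).1, rfl⟩)))
    rw [show n - 1 = m by omega]
    refine ⟨fun j => e (Fin.cast hm.symm ((Fin.cast hm i).succAbove j)), ?_⟩
    rw [eq_top_iff, ← he, Submodule.span_le]
    rintro _ ⟨j, rfl⟩
    have hsub : e '' {j | j ≠ i} ⊆ Set.range fun j => e (Fin.cast hm.symm ((Fin.cast hm i).succAbove j)) := by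
      rintro _ ⟨j, hj, rfl⟩
      obtain ⟨k, hk⟩ := Fin.exists_succAbove_eq (y := Fin.cast hm i) (x := Fin.cast hm j)
        (fun h => hj (Fin.cast_injective hm h))
      exact ⟨k, by simp [hk]⟩
    by_cases hj : j = i
    · subst hj; exact Submodule.span_mono hsub hmem
    · exact Submodule.subset_span (hsub ⟨j, hj, rfl⟩)
  have hco : ∀ w : F, ∃ c : Fin n → R, ∑ i, c i • e i = w := fun w =>
    (Submodule.mem_span_range_iff_exists_fun R).1 (he ▸ Submodule.mem_top)
  have hq' : ∀ (N : ℕ) (a : Fin n → R) (w : F), ∑ i, a i • e i = p • w →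
      ∀ i, a i ∈ Ideal.span {p} ⊔ maximalIdeal R ^ N := by
    intro N
    induction N with
    | zero => intro a w _ i; rw [pow_zero, Ideal.one_eq_top, sup_top_eq]; trivial
    | succ N ih =>
      intro a w ha i
      obtain ⟨c, rfl⟩ := hco w
      have hrel : ∑ i, (a i - p * c i) • e i = 0 := by
        rw [Finset.sum_congr rfl fun i _ => sub_smul (a i) (p * c i) (e i), Finset.sum_sub_distrib, ha,
          Finset.smul_sum, sub_eq_zero]
        exact Finset.sum_congr rfl fun i _ => smul_smul p (c i) (e i)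
      have hmem : ∀ i, ∃ b d, b * p + d * q = a i := fun i => by
        have h1 := hmax _ hrel i
        have h2 : a i ∈ maximalIdeal R := by
          have := add_mem h1 ((maximalIdeal R).mul_mem_right (c i)
            (show p ∈ maximalIdeal R from hm ▸ Ideal.subset_span (Or.inl rfl)))
          simpa using this
        exact Ideal.mem_span_pair.1 (hm.symm ▸ h2)
      choose b d hbd using hmem
      have hqd : q • (∑ i, d i • e i) = p • ((∑ i, c i • e i) - ∑ i, b i • e i) := by
        rw [smul_sub, ← ha, Finset.smul_sum, Finset.smul_sum, ← Finset.sum_sub_distrib]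
        refine Finset.sum_congr rfl fun i _ => ?_
        rw [smul_smul, smul_smul]
        refine eq_sub_of_add_eq ?_
        rw [← add_smul]
        exact congrArg (fun r : R => r • e i) (by linear_combination hbd i)
      obtain ⟨w'', hw''⟩ := hqreg _ _ hqd
      have hdi := ih d w'' hw'' i
      obtain ⟨u, hu, v, hv, huv⟩ := Submodule.mem_sup.1 hdi
      rw [← hbd i, ← huv, add_mul, ← add_assoc]
      refine Submodule.mem_sup.2 ⟨_, add_mem (Ideal.mul_mem_left _ _ (Ideal.subset_span rfl))
        (Ideal.mul_mem_right _ _ hu), _, ?_, rfl⟩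
      rw [pow_succ]
      exact Ideal.mul_mem_mul hv (hm ▸ Ideal.subset_span (Or.inr rfl))
  haveI : (Ideal.span {p}).IsPrime := (Ideal.span_singleton_prime hp.ne_zero).2 hp
  have hkrull : ∀ x : R, (∀ N, x ∈ Ideal.span {p} ⊔ maximalIdeal R ^ N) → p ∣ x := fun x hx => by
    rw [← Ideal.mem_span_singleton, ← Ideal.Quotient.eq_zero_iff_mem, ← Ideal.mem_bot,
      ← Ideal.iInf_pow_eq_bot_of_isDomain ((maximalIdeal R).map (Ideal.Quotient.mk (Ideal.span {p}))) (by
        intro h
        have h1 := congrArg (Ideal.comap (Ideal.Quotient.mk (Ideal.span {p}))) h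
        rw [Ideal.comap_map_of_surjective _ Ideal.Quotient.mk_surjective, Ideal.comap_top, ← RingHom.ker_eq_comap_bot,
          Ideal.mk_ker, sup_eq_left.2 ((Ideal.span_singleton_le_iff_mem _).2
            (hm ▸ Ideal.subset_span (Or.inl rfl)))] at h1
        exact (maximalIdeal.isMaximal R).ne_top h1)]
    refine Ideal.mem_iInf.2 fun N => ?_
    obtain ⟨u, hu, v, hv, rfl⟩ := Submodule.mem_sup.1 (hx N)
    rw [map_add, Ideal.Quotient.eq_zero_iff_mem.2 hu, zero_add, ← Ideal.map_pow]
    exact Ideal.mem_map_of_mem _ hv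
  have hzero : ∀ (N : ℕ) (a : Fin n → R), ∑ i, a i • e i = 0 → ∀ i, p ^ N ∣ a i := by
    intro N
    induction N with
    | zero => intro a _ i; simp
    | succ N ih =>
      intro a ha i
      have hd : ∀ i, p ∣ a i := fun i => hkrull _ fun M => hq' M a 0 (by rw [ha, smul_zero]) i
      choose c hc using hd
      have h0 : ∑ i, c i • e i = 0 := by
        refine Subtype.ext (funext fun s => ?_)
        have := congrFun (congrArg Subtype.val ha) s
        simp only [hc, mul_smul, ← Finset.smul_sum] at this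
        exact (mul_eq_zero.1 (show p * ((∑ i, c i • e i : F) : κ → R) s = 0 from this)).resolve_left hp.ne_zero
      rw [hc i, pow_succ']
      exact mul_dvd_mul_left p (ih c h0 i)
  refine Module.Free.of_basis (Module.Basis.mk (v := e) (Fintype.linearIndependent_iff.2 fun a ha i => ?_) he.ge)
  have hbot := Ideal.iInf_pow_eq_bot_of_isDomain (Ideal.span {p})
    (fun h => hp.not_unit (Ideal.span_singleton_eq_top.1 h))
  rw [← Ideal.mem_bot, ← hbot, Ideal.mem_iInf]
  intro N
  rw [Ideal.span_singleton_pow, Ideal.mem_span_singleton]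
  exact hzero N a ha i

theorem length_hom_free {F : Type u} [AddCommGroup F] [Module R F] [Module.Free R F] [Module.Finite R F]
    (M : Type u) [AddCommGroup M] [Module R M] :
    Module.length R (F →ₗ[R] M) = (Module.finrank R F : ℕ∞) * Module.length R M := by
  rw [((Module.finBasis R F).constr R (M' := M)).symm.length_eq, Module.length_pi_of_fintype]
  simp

/-- The linkage formula. -/
theorem length_hom_add [IsNoetherianRing R] [IsLocalRing R] {p q : R} (hm : Ideal.span {p, q} = maximalIdeal R)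
    (hp : Prime p) (hq : Prime q) (hpq : ¬ p ∣ q) (hqp : ¬ q ∣ p)
    (I J : Ideal R) (hI : Cofin I) (hJ : Cofin J) :
    Module.length R (I →ₗ[R] (R ⧸ J)) + (colen (I.colon (J : Set R)) R : ℕ∞) = colen J R + colen I R := by
  classical
  obtain ⟨T, hT⟩ := hI
  set x := p ^ (T + 1)
  set y := q ^ (T + 1)
  have hxm : x ∈ maximalIdeal R ^ (T + 1) := Ideal.pow_mem_pow (hm ▸ Ideal.subset_span (Or.inl rfl)) _
  have hym : y ∈ maximalIdeal R ^ (T + 1) := Ideal.pow_mem_pow (hm ▸ Ideal.subset_span (Or.inr rfl)) _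
  have hTI : maximalIdeal R ^ (T + 1) ≤ I := (Ideal.pow_le_pow_right T.le_succ).trans hT
  have hI : Cofin I := ⟨T, hT⟩
  set C := Ideal.span {x, y}
  have hCI : C ≤ I := Ideal.span_le.2 (by rintro r (rfl | rfl); exacts [hTI hxm, hTI hym])
  have hC : Cofin C := by
    refine ⟨(T + 1) + (T + 1), ?_⟩
    rw [← hm, Ideal.span_insert]
    refine Ideal.sup_pow_add_le_pow_sup_pow.trans ?_
    rw [Ideal.span_singleton_pow, Ideal.span_singleton_pow, ← Ideal.span_insert]
  have hreg : ∀ {a : R}, x ∣ y * a → x ∣ a := fun h => coprime_pow hp hpq _ _ h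
  have hx0 : x ≠ 0 := pow_ne_zero _ hp.ne_zero
  -- socle
  have dual : ∀ {a : Ideal R}, C ≤ a → colen (C.colon (a : Set R)) R + colen a R = colen C R := fun ha =>
    colen_colon_add hC (Δ := p ^ T * q ^ T)
      (fun r hr => by
        obtain ⟨b, d, rfl⟩ := Ideal.mem_span_pair.1 (hm.symm ▸ hr)
        exact Ideal.mem_span_pair.2 ⟨b * q ^ T, d * p ^ T, by simp only [x, y]; ring⟩)
      (fun z hz => socle_pow hp hq hpq hqp T
        (by rw [mul_comm]; exact hz p (hm ▸ Ideal.subset_span (Or.inl rfl)))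
        (by rw [mul_comm]; exact hz q (hm ▸ Ideal.subset_span (Or.inr rfl)))) ha
  have hCle : ∀ s : Set R, C ≤ C.colon s := fun s r hr => Submodule.mem_colon.2 fun t _ => C.mul_mem_right t hr
  have hCCI : C.colon ((C.colon (I : Set R) : Ideal R) : Set R) = I := by
    refine (eq_of_colen hI (fun r hr => Submodule.mem_colon.2 fun s hs => ?_) ?_).symm
    · rw [smul_eq_mul, mul_comm]; exact Submodule.mem_colon.1 hs r hr
    · have h1 := dual hCI
      have h2 := dual (a := C.colon (I : Set R)) (hCle _)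
      omega
  -- presentation of I
  obtain ⟨m, f, hf⟩ := Submodule.fg_iff_exists_fin_generating_family.1 (IsNoetherian.noetherian I)
  let g : Fin 2 ⊕ Fin m → R := Sum.elim ![x, y] f
  let π : (Fin 2 ⊕ Fin m → R) →ₗ[R] R := Fintype.linearCombination R g
  have hπ : LinearMap.range π = I := by
    rw [Fintype.range_linearCombination, Set.Sum.elim_range, Submodule.span_union, hf]
    refine sup_eq_right.2 (Submodule.span_le.2 ?_)
    rintro _ ⟨i, rfl⟩
    fin_cases i
    exacts [hTI hxm, hTI hym]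
  let π' : (Fin 2 ⊕ Fin m → R) →ₗ[R] I := π.codRestrict I fun w => hπ ▸ LinearMap.mem_range_self π w
  have hπ's : Function.Surjective π' := fun ⟨r, hr⟩ => by
    rw [← hπ] at hr; obtain ⟨w, hw⟩ := hr; exact ⟨w, Subtype.ext hw⟩
  haveI : Module.Free R (LinearMap.ker π) := free_ker hm hp hpq π
  set F := LinearMap.ker π
  let u : Fin 2 ⊕ Fin m → R := Pi.single (Sum.inl 0) 1
  let v : Fin 2 ⊕ Fin m → R := Pi.single (Sum.inl 1) 1
  have hu : π u = x := by simp [π, u, g, Fintype.linearCombination_apply_single]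
  have hv : π v = y := by simp [π, v, g, Fintype.linearCombination_apply_single]
  let z : F := ⟨y • u - x • v, by simp [F, hu, hv]; ring⟩
  -- ranks
  have hrank : Module.finrank R (Fin 2 ⊕ Fin m → R) = Module.finrank R F + 1 := by
    rw [← Submodule.finrank_quotient_add_finrank F, add_comm]
    congr 1
    rw [(π.quotKerEquivRange).finrank_eq, hπ]
    refine le_antisymm ((Submodule.finrank_le _).trans_eq (Module.finrank_self R)) ?_
    haveI : Nontrivial I := ⟨⟨x, hTI hxm⟩, 0, fun h => hx0 (congrArg Subtype.val h)⟩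
    exact Module.finrank_pos
  -- the map θ
  let θ : (F →ₗ[R] R) →ₗ[R] R ⧸ C := (Submodule.mkQ C).comp (LinearMap.applyₗ z)
  let ρ : ((Fin 2 ⊕ Fin m → R) →ₗ[R] R) →ₗ[R] (F →ₗ[R] R) := LinearMap.lcomp R R F.subtype
  have hkerθ : LinearMap.ker θ = LinearMap.range ρ := by
    ext φ
    constructor
    · intro hφ
      obtain ⟨α, β, hαβ⟩ := Ideal.mem_span_pair.1 ((Submodule.Quotient.mk_eq_zero C).1 hφ)
      let h0 : (Fin 2 ⊕ Fin m → R) →ₗ[R] R := β • LinearMap.proj (Sum.inl 0) - α • LinearMap.proj (Sum.inl 1)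
      have hz0 : ρ h0 z = φ z := by
        show h0 (y • u - x • v) = φ z
        have hαβ' : α * x + β * y = φ z := hαβ
        rw [← hαβ']
        simp [h0, u, v]
        ring
      set φ' := φ - ρ h0
      have hφ'z : φ' z = 0 := by simp [φ', hz0]
      let ξ : (Fin 2 ⊕ Fin m → R) →ₗ[R] F :=
        (x • LinearMap.id - π.smulRight u).codRestrict F fun w => by simp [F, hu]; ring
      let η : (Fin 2 ⊕ Fin m → R) →ₗ[R] F :=
        (y • LinearMap.id - π.smulRight v).codRestrict F fun w => by simp [F, hv]; ring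
      have hξη : ∀ w, y • ξ w - x • η w = -(π w) • z := fun w => Subtype.ext (funext fun s => by
        simp [ξ, η, z]; ring)
      have hdvd : ∀ w, x ∣ φ' (ξ w) := fun w => hreg ⟨φ' (η w), by
        have := congrArg φ' (hξη w)
        simp only [map_sub, map_smul, smul_eq_mul, hφ'z, mul_zero] at this
        exact sub_eq_zero.1 this⟩
      choose s hs using hdvd
      let h1 : (Fin 2 ⊕ Fin m → R) →ₗ[R] R :=
        { toFun := s
          map_add' := fun a b => mul_left_cancel₀ hx0 (by rw [mul_add, ← hs, ← hs, ← hs, map_add, map_add])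
          map_smul' := fun c a => mul_left_cancel₀ hx0 (by
            rw [RingHom.id_apply, smul_eq_mul, mul_left_comm, ← hs, ← hs, map_smul, map_smul, smul_eq_mul]) }
      refine ⟨h0 + h1, LinearMap.ext fun w => ?_⟩
      have hw : ξ (w : Fin 2 ⊕ Fin m → R) = x • w := Subtype.ext (by
        simp [ξ, show π (w : Fin 2 ⊕ Fin m → R) = 0 from w.2])
      show h0 w + s w = φ w
      have : s (w : Fin 2 ⊕ Fin m → R) = φ' w := mul_left_cancel₀ hx0 (by rw [← hs, hw, map_smul, smul_eq_mul])
      rw [this]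
      show h0 w + (φ w - h0 w) = φ w
      ring
    · rintro ⟨h, rfl⟩
      show Submodule.Quotient.mk (h (y • u - x • v)) = 0
      rw [Submodule.Quotient.mk_eq_zero]
      exact Ideal.mem_span_pair.2 ⟨-(h v), h u, by simp; ring⟩
  have hrangeθ : LinearMap.range θ = Submodule.map C.mkQ (C.colon (I : Set R)) := by
    refine le_antisymm ?_ ?_
    · rintro _ ⟨φ, rfl⟩
      refine ⟨φ z, Submodule.mem_colon.2 fun a ha => ?_, rfl⟩
      obtain ⟨w, hw⟩ := hπ's ⟨a, ha⟩
      have hwa : π w = a := congrArg Subtype.val hw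
      let ξ : F := ⟨x • w - a • u, by simp [F, hu, hwa]; ring⟩
      let η : F := ⟨y • w - a • v, by simp [F, hv, hwa]; ring⟩
      have e : a • z = x • η - y • ξ := Subtype.ext (funext fun s => by simp [ξ, η, z]; ring)
      rw [smul_eq_mul, mul_comm, ← smul_eq_mul, ← map_smul, e, map_sub, map_smul, map_smul]
      exact Ideal.mem_span_pair.2 ⟨φ η, -φ ξ, by simp; ring⟩
    · rintro _ ⟨c, hc, rfl⟩
      have hcg : ∀ i, ∃ P Q, P * x + Q * y = c * g i := fun i => by
        have : g i ∈ I := hπ ▸ ⟨Pi.single i 1, by simp [π, Fintype.linearCombination_apply_single]⟩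
        exact Ideal.mem_span_pair.1 (Submodule.mem_colon.1 hc _ this)
      choose P Q hPQ using hcg
      let Pl := Fintype.linearCombination R P
      let Ql := Fintype.linearCombination R Q
      have hl : ∀ w, Pl w * x + Ql w * y = c * π w := fun w => by
        simp only [Pl, Ql, π, Fintype.linearCombination_apply, smul_eq_mul, Finset.sum_mul, Finset.mul_sum,
          ← Finset.sum_add_distrib]
        exact Finset.sum_congr rfl fun i _ => by linear_combination (w i) * hPQ i
      have hd : ∀ w : F, x ∣ Ql w := fun w => hreg ⟨-(Pl w), by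
        have := hl w
        rw [show π (w : Fin 2 ⊕ Fin m → R) = 0 from w.2, mul_zero] at this
        linear_combination this⟩
      choose s hs using hd
      let φ : F →ₗ[R] R :=
        { toFun := fun w => -s w
          map_add' := fun a b => mul_left_cancel₀ hx0 (by
            have := map_add Ql (a : Fin 2 ⊕ Fin m → R) b
            linear_combination -this + hs (a + b) - hs a - hs b)
          map_smul' := fun r a => mul_left_cancel₀ hx0 (by
            have := map_smul Ql r (a : Fin 2 ⊕ Fin m → R)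
            simp only [smul_eq_mul] at this
            show x * -s (r • a) = x * (r * -s a)
            linear_combination -this + hs (r • a) - r * hs a) }
      refine ⟨φ, ?_⟩
      show Submodule.Quotient.mk (φ z) = Submodule.Quotient.mk c
      rw [Submodule.Quotient.eq]
      have e1 := hs z
      have e2 := hl v
      have e3 := hl u
      rw [show Ql (z : Fin 2 ⊕ Fin m → R) = y * Ql u - x * Ql v by simp [z]] at e1
      rw [hv] at e2
      rw [hu] at e3
      have e4 : x * (φ z - c) = x * ((Pl u - c) + (Ql v - c)) := by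
        show x * (-s z - c) = _
        linear_combination e1 - e3
      rw [mul_left_cancel₀ hx0 e4]
      have hPu : c - Pl u ∈ C := by
        obtain ⟨w, hw⟩ : x ∣ Ql u := hreg ⟨c - Pl u, by linear_combination e3⟩
        refine Ideal.mem_span_pair.2 ⟨0, w, ?_⟩
        exact mul_left_cancel₀ hx0 (by linear_combination e3 - y * hw)
      have hQv : c - Ql v ∈ C := by
        obtain ⟨w, hw⟩ : y ∣ Pl v := coprime_pow hq hqp (T + 1) (T + 1) ⟨c - Ql v, by linear_combination e2⟩
        refine Ideal.mem_span_pair.2 ⟨w, 0, ?_⟩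
        exact mul_left_cancel₀ (show y ≠ 0 from pow_ne_zero _ hq.ne_zero) (by linear_combination e2 - x * hw)
      exact add_mem (by simpa using neg_mem hPu) (by simpa using neg_mem hQv)
  -- modulo J
  let Ψ : (F →ₗ[R] R) →ₗ[R] (F →ₗ[R] R ⧸ J) := LinearMap.compRight R (Submodule.mkQ J)
  let bF := Module.finBasis R F
  have hΨs : Function.Surjective Ψ := fun φ => by
    choose s hs using fun i => Submodule.Quotient.mk_surjective J (φ (bF i))
    exact ⟨bF.constr R s, bF.ext fun i => by simpa [Ψ] using hs i⟩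
  have hΨk : LinearMap.ker Ψ = J • (⊤ : Submodule R (F →ₗ[R] R)) := by
    refine le_antisymm (fun φ hφ => ?_) (Submodule.smul_le.2 fun j hj φ _ => LinearMap.ext fun w => ?_)
    · have : φ = ∑ i, φ (bF i) • bF.coord i := bF.ext fun k => by simp [Finsupp.single_apply]
      rw [this]
      exact sum_mem fun i _ => Submodule.smul_mem_smul
        ((Submodule.Quotient.mk_eq_zero J).1 (LinearMap.congr_fun hφ (bF i))) trivial
    · exact (Submodule.Quotient.mk_eq_zero J).2 (J.mul_mem_right _ hj)
  let ρJ : ((Fin 2 ⊕ Fin m → R) →ₗ[R] R ⧸ J) →ₗ[R] (F →ₗ[R] R ⧸ J) := LinearMap.lcomp R (R ⧸ J) F.subtype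
  have hρJ : LinearMap.range ρJ = (LinearMap.range ρ).map Ψ := by
    refine le_antisymm ?_ ?_
    · rintro _ ⟨h, rfl⟩
      choose s hs using fun i => Submodule.Quotient.mk_surjective J (h (Pi.single i 1))
      refine ⟨_, ⟨Fintype.linearCombination R s, rfl⟩, ?_⟩
      have e : (Submodule.mkQ J).comp (Fintype.linearCombination R s) = h :=
        (Pi.basisFun R _).ext fun i => by simp [Fintype.linearCombination_apply_single]; exact hs i
      rw [← e]; rfl
    · rintro _ ⟨_, ⟨h, rfl⟩, rfl⟩
      exact ⟨(Submodule.mkQ J).comp h, rfl⟩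
  -- the cokernel
  set Z := C.colon (I : Set R)
  set a := J * Z ⊔ C
  have haC : C ≤ a := le_sup_right
  have haZ : a ≤ Z := sup_le Ideal.mul_le_right (hCle _)
  let θ' : (F →ₗ[R] R) →ₗ[R] R ⧸ a := (Submodule.factor haC).comp θ
  have hθJ : Submodule.map θ (J • (⊤ : Submodule R (F →ₗ[R] R))) = Submodule.map C.mkQ (J * Z) := by
    rw [Submodule.map_smul'', Submodule.map_top, hrangeθ, ← Submodule.map_smul'', smul_eq_mul]
  have hkerθ' : LinearMap.ker θ' = LinearMap.range ρ ⊔ LinearMap.ker Ψ := by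
    rw [← hkerθ, hΨk]
    refine le_antisymm (fun φ hφ => ?_) (sup_le (fun φ hφ => ?_) ?_)
    · have h0 : θ φ ∈ Submodule.map C.mkQ a := by
        obtain ⟨r, hr⟩ := Submodule.Quotient.mk_surjective C (θ φ)
        have h1 : Submodule.factor haC (θ φ) = 0 := hφ
        rw [← hr] at h1 ⊢
        exact ⟨r, (Submodule.Quotient.mk_eq_zero a).1 h1, rfl⟩
      rw [Submodule.map_sup, Submodule.mkQ_map_self, sup_bot_eq, ← hθJ] at h0
      obtain ⟨ψ, hψ, hψe⟩ := h0
      refine Submodule.mem_sup.2 ⟨φ - ψ, ?_, ψ, hψ, sub_add_cancel φ ψ⟩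
      rw [LinearMap.mem_ker, map_sub, hψe, sub_self]
    · show Submodule.factor haC (θ φ) = 0
      rw [show θ φ = 0 from hφ, map_zero]
    · intro φ hφ
      obtain ⟨r, hr, hre⟩ := hθJ.le ⟨φ, hφ, rfl⟩
      show Submodule.factor haC (θ φ) = 0
      rw [← hre]
      exact (Submodule.Quotient.mk_eq_zero a).2 (Submodule.mem_sup_left hr)
  let Φ : (F →ₗ[R] R) →ₗ[R] (F →ₗ[R] R ⧸ J) ⧸ LinearMap.range ρJ := (LinearMap.range ρJ).mkQ.comp Ψ
  have hΦk : LinearMap.ker Φ = LinearMap.range ρ ⊔ LinearMap.ker Ψ := by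
    rw [LinearMap.ker_comp, Submodule.ker_mkQ, hρJ, Submodule.comap_map_eq]
  have hcoker : Module.length R ((F →ₗ[R] R ⧸ J) ⧸ LinearMap.range ρJ) + colen Z R = colen a R := by
    have hΦs : Function.Surjective Φ := (Submodule.mkQ_surjective _).comp hΨs
    rw [((Φ.quotKerEquivOfSurjective hΦs).symm.trans ((Submodule.quotEquivOfEq _ _ (hΦk.trans hkerθ'.symm)).trans
      θ'.quotKerEquivRange)).length_eq,
      colen_self (cofin_mono hC (hCle _)), colen_self (cofin_mono hC haC)]
    refine (Module.length_eq_add_of_exact (LinearMap.range θ').subtype (Submodule.factor haZ)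
      (Submodule.injective_subtype _) (Submodule.factor_surjective _) fun w => ?_).symm
    have hr : LinearMap.range θ' = Submodule.map a.mkQ Z := by
      rw [LinearMap.range_comp, hrangeθ, ← Submodule.map_comp, Submodule.factor_comp_mk]
    constructor
    · intro hw
      obtain ⟨r, rfl⟩ := Submodule.Quotient.mk_surjective a w
      exact ⟨⟨_, hr ▸ ⟨r, (Submodule.Quotient.mk_eq_zero Z).1 hw, rfl⟩⟩, rfl⟩
    · rintro ⟨⟨w, hw⟩, rfl⟩
      obtain ⟨r, hr', rfl⟩ := hr ▸ hw
      exact (Submodule.Quotient.mk_eq_zero Z).2 hr'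
  have hCa : C.colon (a : Set R) = I.colon (J : Set R) := by
    ext r
    constructor
    · intro hr
      refine Submodule.mem_colon.2 fun j hj => ?_
      rw [← hCCI]
      refine Submodule.mem_colon.2 fun c hc => ?_
      rw [smul_eq_mul, smul_eq_mul, mul_assoc]
      exact Submodule.mem_colon.1 hr _ (Submodule.mem_sup_left (Ideal.mul_mem_mul hj hc))
    · intro hr
      refine Submodule.mem_colon.2 fun s hs => ?_
      obtain ⟨w, hw, t, ht, rfl⟩ := Submodule.mem_sup.1 hs
      rw [smul_eq_mul, mul_add]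
      refine add_mem ?_ (C.mul_mem_left r ht)
      refine Submodule.mul_induction_on hw (fun j hj c hc => ?_) fun b d hb hd => ?_
      · rw [← mul_assoc, mul_comm]
        exact Submodule.mem_colon.1 hc _ (Submodule.mem_colon.1 hr j hj)
      · rw [mul_add]; exact add_mem hb hd
  -- Hom(I, R/J)
  let α : (I →ₗ[R] R ⧸ J) →ₗ[R] ((Fin 2 ⊕ Fin m → R) →ₗ[R] R ⧸ J) := LinearMap.lcomp R (R ⧸ J) π'
  have hαi : Function.Injective α := fun h h' e => LinearMap.ext fun r => by
    obtain ⟨w, rfl⟩ := hπ's r; exact LinearMap.congr_fun e w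
  have hπ'k : LinearMap.ker π' = F := LinearMap.ker_codRestrict _ _ _
  let gJ : ((Fin 2 ⊕ Fin m → R) →ₗ[R] R ⧸ J) →ₗ[R] ↥(LinearMap.range ρJ) := ρJ.rangeRestrict
  have hαex : Function.Exact α gJ := fun h => by
    constructor
    · intro hh
      have hh' : ρJ h = 0 := congrArg Subtype.val hh
      refine ⟨((LinearMap.ker π').liftQ h (fun w hw => LinearMap.congr_fun hh' ⟨w, hπ'k ▸ hw⟩)).comp
        (π'.quotKerEquivOfSurjective hπ's).symm.toLinearMap, LinearMap.ext fun w => ?_⟩
      show (LinearMap.ker π').liftQ h (fun w hw => LinearMap.congr_fun hh' ⟨w, hπ'k ▸ hw⟩) ((π'.quotKerEquivOfSurjective hπ's).symm (π' w)) = h w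
      rw [show (π'.quotKerEquivOfSurjective hπ's).symm (π' w) = Submodule.Quotient.mk w from
        (π'.quotKerEquivOfSurjective hπ's).symm_apply_eq.2 rfl]
      rfl
    · rintro ⟨h', rfl⟩
      refine Subtype.ext (LinearMap.ext fun w => ?_)
      show h' (π' w) = 0
      rw [show π' (w : Fin 2 ⊕ Fin m → R) = 0 from Subtype.ext w.2, map_zero]
  have h1 := @Module.length_eq_add_of_exact R ((Fin 2 ⊕ Fin m → R) →ₗ[R] R ⧸ J) _ _ _
    (I →ₗ[R] R ⧸ J) (LinearMap.range ρJ) _ _ _ _ α gJ hαi ρJ.surjective_rangeRestrict hαex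
  have h2 := @Module.length_eq_add_of_exact R (F →ₗ[R] R ⧸ J) _ _ _
    (LinearMap.range ρJ) ((F →ₗ[R] R ⧸ J) ⧸ LinearMap.range ρJ) _ _ _ _
    (LinearMap.range ρJ).subtype (LinearMap.range ρJ).mkQ
    (Submodule.injective_subtype _) (Submodule.mkQ_surjective _) (LinearMap.exact_subtype_mkQ _)
  rw [length_hom_free, hrank, ← colen_self hJ] at h1
  rw [length_hom_free, ← colen_self hJ] at h2
  have d1 : colen Z R + colen I R = colen C R := dual hCI
  have d2 := dual haC
  rw [hCa] at d2
  -- finiteness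
  have hfin : Module.length R (LinearMap.range ρJ) ≠ ⊤ := fun h => by
    rw [h, top_add] at h2
    rw [← Nat.cast_mul] at h2
    exact ENat.natCast_ne_top _ h2
  obtain ⟨r, hr⟩ := ENat.ne_top_iff_exists.1 hfin
  have hfin2 : Module.length R ((F →ₗ[R] R ⧸ J) ⧸ LinearMap.range ρJ) ≠ ⊤ := fun h => by
    rw [h, top_add] at hcoker
    exact absurd hcoker.symm (ENat.natCast_ne_top _)
  obtain ⟨c, hc⟩ := ENat.ne_top_iff_exists.1 hfin2
  have hfin3 : Module.length R (I →ₗ[R] R ⧸ J) ≠ ⊤ := fun h => by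
    rw [h, top_add] at h1
    rw [← Nat.cast_mul] at h1
    exact ENat.natCast_ne_top _ h1
  obtain ⟨l, hl⟩ := ENat.ne_top_iff_exists.1 hfin3
  rw [← hc] at h2 hcoker
  rw [← hr] at h1 h2
  rw [← hl] at h1 ⊢
  norm_cast at h1 h2 hcoker ⊢
  rw [Nat.add_mul, one_mul] at h1
  omega

end Groth.Agent.H1Link
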